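/-
The symplectic group of a four dimensional space acts on the self-adjoint operators of trace zero, a five
dimensional orthogonal space, with image the derived orthogonal group.
-/
import Cfsg.Agent.Lib.MaxCl.SympRoot
import Cfsg.Agent.Lib.MaxCl.OrthBase

set_option autoImplicit false

namespace Cfsg.Agent.MaxCl.SpFour

open scoped MatrixGroups Matrix
open Module (finrank)

variable {F : Type*} [Field F]

/-- The index set. -/
abbrev I4 : Type := Fin 2 ⊕ Fin 2

local notation "M4" => Matrix I4 I4 F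

/-- Self-adjoint of trace zero. -/
def IsW (X : Matrix I4 I4 F) : Prop :=
  (∀ u v, Cfsg.sympForm 2 F (X *ᵥ u) v = Cfsg.sympForm 2 F u (X *ᵥ v)) ∧ X.trace = 0

/-- The operator of five coordinates. -/
def Phi : (Fin 5 → F) →ₗ[F] Matrix I4 I4 F where
  toFun x := Matrix.fromBlocks !![x 0, x 1; x 2, -x 0] !![0, x 3; -x 3, 0] !![0, x 4; -x 4, 0]
    !![x 0, x 2; x 1, -x 0]
  map_add' x y := by
    ext i j
    rcases i with i | i <;> rcases j with j | j <;> fin_cases i <;> fin_cases j <;> simp <;> ring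
  map_smul' a x := by
    ext i j
    rcases i with i | i <;> rcases j with j | j <;> fin_cases i <;> fin_cases j <;> simp

/-- The five coordinates. -/
def psi : Matrix I4 I4 F →ₗ[F] (Fin 5 → F) where
  toFun X := ![X (.inl 0) (.inl 0), X (.inl 0) (.inl 1), X (.inl 1) (.inl 0), X (.inl 0) (.inr 1),
    X (.inr 0) (.inl 1)]
  map_add' X Y := by ext i; fin_cases i <;> simp
  map_smul' a X := by ext i; fin_cases i <;> simp

theorem psi_Phi (x : Fin 5 → F) : psi (Phi x) = x := by
  ext i; fin_cases i <;> simp [psi, Phi]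

theorem Phi_injective : Function.Injective (Phi (F := F)) := Function.LeftInverse.injective psi_Phi

theorem f_eq (u v : I4 → F) : Cfsg.sympForm 2 F u v = u (.inr 0) * v (.inl 0) - u (.inl 0) * v (.inr 0) +
    (u (.inr 1) * v (.inl 1) - u (.inl 1) * v (.inr 1)) := by
  simp [Cfsg.sympForm, Matrix.J, dotProduct, Fintype.sum_sum_type, Matrix.mulVec, Fin.sum_univ_two]
  ring

theorem mulVec_I4 (X : Matrix I4 I4 F) (u : I4 → F) (i : I4) : (X *ᵥ u) i =
    X i (.inl 0) * u (.inl 0) + X i (.inl 1) * u (.inl 1) +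
      (X i (.inr 0) * u (.inr 0) + X i (.inr 1) * u (.inr 1)) := by
  simp [Matrix.mulVec, dotProduct, Fintype.sum_sum_type, Fin.sum_univ_two]

theorem isW_Phi (x : Fin 5 → F) : IsW (Phi x) := by
  refine ⟨fun u v => ?_, ?_⟩
  · simp [f_eq, mulVec_I4, Phi]; ring
  · simp [Matrix.trace, Phi, Fintype.sum_sum_type, Fin.sum_univ_two]

variable (h2 : (2 : F) ≠ 0)
include h2

theorem Phi_psi {X : Matrix I4 I4 F} (hX : IsW X) : Phi (psi X) = X := by
  have h : ∀ a b : I4, Cfsg.sympForm 2 F (X *ᵥ Pi.single a 1) (Pi.single b 1) =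
      Cfsg.sympForm 2 F (Pi.single a 1) (X *ᵥ Pi.single b 1) := fun a b => hX.1 _ _
  simp only [f_eq, mulVec_I4] at h
  have ht := hX.2
  simp [Matrix.trace, Fintype.sum_sum_type, Fin.sum_univ_two] at ht
  have z : ∀ {a : F}, a = -a → a = 0 := fun {a} e =>
    (mul_eq_zero.1 (show (2 : F) * a = 0 by linear_combination e)).resolve_left h2
  have l00 := h (.inl 0) (.inl 0); have l01 := h (.inl 0) (.inl 1); have l11 := h (.inl 1) (.inl 1)
  have m00 := h (.inl 0) (.inr 0); have m01 := h (.inl 0) (.inr 1); have m10 := h (.inl 1) (.inr 0)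
  have m11 := h (.inl 1) (.inr 1)
  have r00 := h (.inr 0) (.inr 0); have r01 := h (.inr 0) (.inr 1); have r11 := h (.inr 1) (.inr 1)
  simp at l00 l01 l11 m00 m01 m10 m11 r00 r01 r11
  have half : ∀ {a : F}, 2 * a = 0 → a = 0 := fun {a} e => (mul_eq_zero.1 e).resolve_left h2
  have d1 : X (.inl 1) (.inl 1) = -X (.inl 0) (.inl 0) := eq_neg_of_add_eq_zero_right
    (half (show 2 * (X (.inl 0) (.inl 0) + X (.inl 1) (.inl 1)) = 0 by
      linear_combination ht + m00 + m11))
  ext i j
  rcases i with i | i <;> rcases j with j | j <;> fin_cases i <;> fin_cases j <;> simp [Phi, psi] <;>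
    first
      | rfl
      | linear_combination d1
      | linear_combination -d1
      | linear_combination l01
      | linear_combination -l01
      | linear_combination r01
      | linear_combination -r01
      | linear_combination m01
      | linear_combination -m01
      | linear_combination m10
      | linear_combination -m10
      | linear_combination m00
      | linear_combination -m00
      | linear_combination d1 + m11
      | linear_combination d1 - m11
      | linear_combination -d1 + m11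
      | linear_combination -d1 - m11
      | exact (half (by linear_combination l00)).symm
      | exact (half (by linear_combination -l00)).symm
      | exact (half (by linear_combination l11)).symm
      | exact (half (by linear_combination -l11)).symm
      | exact (half (by linear_combination r00)).symm
      | exact (half (by linear_combination -r00)).symm
      | exact (half (by linear_combination r11)).symm
      | exact (half (by linear_combination -r11)).symm

omit h2

/-- The quadratic form. -/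
noncomputable def qf5 (F : Type*) [Field F] : QuadraticForm F (Fin 5 → F) :=
  QuadraticMap.proj 0 0 + QuadraticMap.proj 1 2 - QuadraticMap.proj 3 4

theorem qf5_apply (x : Fin 5 → F) : qf5 F x = x 0 * x 0 + x 1 * x 2 - x 3 * x 4 := by
  simp [qf5, QuadraticMap.proj_apply]

local notation "Q5" => qf5 F
set_option quotPrecheck false in
local notation "B5" => QuadraticMap.polar (⇑(qf5 F))

theorem polar_qf5 (x y : Fin 5 → F) : B5 x y =
    2 * x 0 * y 0 + (x 1 * y 2 + x 2 * y 1) - (x 3 * y 4 + x 4 * y 3) := by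
  simp only [QuadraticMap.polar, qf5_apply, Pi.add_apply]; ring

theorem nondeg_qf5 (h2 : (2 : F) ≠ 0) : (QuadraticMap.polarBilin (qf5 F)).Nondegenerate := by
  have key : ∀ x : Fin 5 → F, (∀ y, B5 x y = 0) → x = 0 := fun x hx => by
    have h0 := hx (Pi.single 0 1); have h1 := hx (Pi.single 1 1); have h2' := hx (Pi.single 2 1)
    have h3 := hx (Pi.single 3 1); have h4 := hx (Pi.single 4 1)
    simp [polar_qf5, h2] at h0 h1 h2' h3 h4
    ext i; fin_cases i <;> simp <;> assumption
  refine ⟨fun x hx => key x fun y => ?_, fun y hy => key y fun x => ?_⟩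
  · simpa using hx y
  · rw [QuadraticMap.polar_comm]; simpa using hy x

theorem Phi_sq (x : Fin 5 → F) : Phi x * Phi x = qf5 F x • 1 := by
  ext i j
  rcases i with i | i <;> rcases j with j | j <;> fin_cases i <;> fin_cases j <;>
    simp [Phi, qf5_apply, Matrix.mul_apply, Fintype.sum_sum_type, Fin.sum_univ_two] <;> ring

theorem Phi_anti (x y : Fin 5 → F) : Phi x * Phi y + Phi y * Phi x = B5 x y • 1 := by
  have h := Phi_sq (F := F) (x + y)
  rw [map_add, Orth.Q_add (qf5 F), add_smul, add_smul, ← Phi_sq, ← Phi_sq, add_mul, mul_add, mul_add] at h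
  linear_combination (norm := abel) h

theorem trace_Phi_mul (h2 : (2 : F) ≠ 0) (x y : Fin 5 → F) : (Phi x * Phi y).trace = 2 * B5 x y := by
  have h := congrArg Matrix.trace (Phi_anti (F := F) x y)
  rw [Matrix.trace_add, Matrix.trace_mul_comm (Phi y), Matrix.trace_smul, Matrix.trace_one] at h
  simp at h
  exact mul_left_cancel₀ h2 (by linear_combination h)

/-! ### Elementary operators -/

/-- The operator `z ↦ f(v,z) u - f(u,z) v`. -/
def P (u v : I4 → F) : Matrix I4 I4 F :=
  Matrix.vecMulVec u (v ᵥ* Matrix.J (Fin 2) F) - Matrix.vecMulVec v (u ᵥ* Matrix.J (Fin 2) F)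

theorem vecMul_J_dot (v z : I4 → F) : (v ᵥ* Matrix.J (Fin 2) F) ⬝ᵥ z = Cfsg.sympForm 2 F v z :=
  (Matrix.dotProduct_mulVec v _ z).symm

theorem P_mulVec (u v z : I4 → F) :
    P u v *ᵥ z = Cfsg.sympForm 2 F v z • u - Cfsg.sympForm 2 F u z • v := by
  rw [P, Matrix.sub_mulVec]
  funext i
  simp only [Matrix.mulVec, dotProduct, Matrix.vecMulVec_apply, Pi.sub_apply, Pi.smul_apply, smul_eq_mul]
  rw [← vecMul_J_dot v z, ← vecMul_J_dot u z, dotProduct, dotProduct, Finset.sum_mul, Finset.sum_mul]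
  congr 1 <;> exact Finset.sum_congr rfl fun j _ => by ring

theorem trace_mul_P (X : Matrix I4 I4 F) (u v : I4 → F) :
    (X * P u v).trace = Cfsg.sympForm 2 F v (X *ᵥ u) - Cfsg.sympForm 2 F u (X *ᵥ v) := by
  rw [P, mul_sub, Matrix.trace_sub, Matrix.mul_vecMulVec, Matrix.mul_vecMulVec, Matrix.trace_vecMulVec,
    Matrix.trace_vecMulVec, dotProduct_comm, vecMul_J_dot, dotProduct_comm, vecMul_J_dot]

theorem isW_P {u v : I4 → F} (h : Cfsg.sympForm 2 F u v = 0) : IsW (P u v) := by
  have hf := sympForm_isSymplectic 2 F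
  refine ⟨fun y z => ?_, ?_⟩
  · simp only [P_mulVec, f_sub_left hf, f_sub_right hf, f_smul_left hf, f_smul_right hf,
      f_skew hf y u, f_skew hf y v]
    ring
  · have := trace_mul_P (1 : M4) u v
    rw [one_mul, Matrix.one_mulVec, Matrix.one_mulVec, h, f_eq_zero_symm hf h, sub_zero] at this
    exact this

theorem P_add_right (u v w : I4 → F) : P u (v + w) = P u v + P u w := by
  simp only [P, Matrix.add_vecMul, Matrix.vecMulVec_add, Matrix.add_vecMulVec]; abel

theorem P_smul_right (u v : I4 → F) (a : F) : P u (a • v) = a • P u v := by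
  simp only [P, Matrix.smul_vecMul, Matrix.vecMulVec_smul, Matrix.smul_vecMulVec, smul_sub]

theorem P_self (u : I4 → F) : P u u = 0 := sub_self _

/-! ### Hyperbolic bases -/

/-- Two orthogonal hyperbolic pairs. -/
structure Quad (u u' v v' : I4 → F) : Prop where
  uu : Cfsg.sympForm 2 F u u' = 1
  vv : Cfsg.sympForm 2 F v v' = 1
  uv : Cfsg.sympForm 2 F u v = 0
  uv' : Cfsg.sympForm 2 F u v' = 0
  u'v : Cfsg.sympForm 2 F u' v = 0
  u'v' : Cfsg.sympForm 2 F u' v' = 0

variable {u u' v v' : I4 → F}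

theorem Quad.indep (h : Quad u u' v v') : LinearIndependent F ![u, u', v, v'] := by
  have hf := sympForm_isSymplectic 2 F
  rw [Fintype.linearIndependent_iff]
  intro g hg
  simp [Fin.sum_univ_four] at hg
  have e : ∀ w, Cfsg.sympForm 2 F (g 0 • u + g 1 • u' + g 2 • v + g 3 • v') w = 0 := fun w => by
    rw [hg, f_zero_left hf]
  have e1 := e u; have e2 := e u'; have e3 := e v; have e4 := e v'
  simp only [f_add_left hf, f_smul_left hf, f_self hf, f_skew hf u' u, f_skew hf v u, f_skew hf v' u,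
    f_skew hf v u', f_skew hf v' u', f_skew hf v' v, h.uu, h.vv, h.uv, h.uv', h.u'v, h.u'v', mul_zero, neg_zero,
    mul_one, mul_neg, add_zero, zero_add] at e1 e2 e3 e4
  intro i; fin_cases i <;> simp_all

theorem Quad.expand (h : Quad u u' v v') (z : I4 → F) :
    z = Cfsg.sympForm 2 F z u' • u - Cfsg.sympForm 2 F z u • u' + Cfsg.sympForm 2 F z v' • v -
      Cfsg.sympForm 2 F z v • v' := by
  have hf := sympForm_isSymplectic 2 F
  have htop : Submodule.span F (Set.range ![u, u', v, v']) = ⊤ :=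
    h.indep.span_eq_top_of_card_eq_finrank (by simp [Module.finrank_pi])
  obtain ⟨g, rfl⟩ := (Submodule.mem_span_range_iff_exists_fun F).1 (htop.ge (Submodule.mem_top (x := z)))
  simp only [Fin.sum_univ_four, Matrix.cons_val_zero, Matrix.cons_val_one, Matrix.cons_val, f_add_left hf,
    f_smul_left hf, f_self hf, f_skew hf u' u, f_skew hf v u, f_skew hf v' u,
    f_skew hf v u', f_skew hf v' u', f_skew hf v' v, h.uu, h.vv, h.uv, h.uv', h.u'v, h.u'v']
  module

theorem exists_quad_of_pair (huu : Cfsg.sympForm 2 F u u' = 1) (hv : v ≠ 0) (huv : Cfsg.sympForm 2 F u v = 0)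
    (hu'v : Cfsg.sympForm 2 F u' v = 0) : ∃ w, Quad u u' v w := by
  have hf := sympForm_isSymplectic 2 F
  obtain ⟨y, hy⟩ := (hf.nondegenerate v hv).2
  obtain ⟨w₀, hw₀, hvw⟩ : ∃ w₀, w₀ = (Cfsg.sympForm 2 F v y)⁻¹ • y ∧ Cfsg.sympForm 2 F v w₀ = 1 :=
    ⟨_, rfl, by rw [f_smul_right hf, inv_mul_cancel₀ hy]⟩
  refine ⟨w₀ - Cfsg.sympForm 2 F w₀ u' • u + Cfsg.sympForm 2 F w₀ u • u', huu, ?_, huv, ?_, hu'v, ?_⟩
  · simp only [f_add_right hf, f_sub_right hf, f_smul_right hf, hvw, f_eq_zero_symm hf huv,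
      f_eq_zero_symm hf hu'v]; ring
  · simp only [f_add_right hf, f_sub_right hf, f_smul_right hf, f_self hf, huu, f_skew hf u w₀]; ring
  · simp only [f_add_right hf, f_sub_right hf, f_smul_right hf, f_self hf, f_skew hf u' u, huu,
      f_skew hf u' w₀]; ring

theorem exists_quad (hu : u ≠ 0) : ∃ u' v v', Quad u u' v v' := by
  have hf := sympForm_isSymplectic 2 F
  obtain ⟨y, hy⟩ := (hf.nondegenerate u hu).2
  obtain ⟨u', hu', huu⟩ : ∃ u', u' = (Cfsg.sympForm 2 F u y)⁻¹ • y ∧ Cfsg.sympForm 2 F u u' = 1 :=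
    ⟨_, rfl, by rw [f_smul_right hf, inv_mul_cancel₀ hy]⟩
  let L : (I4 → F) →ₗ[F] F × F := (flin hf.bilinear u).prod (flin hf.bilinear u')
  obtain ⟨v, hv, hv0⟩ := Submodule.exists_mem_ne_zero_of_ne_bot
    (LinearMap.ker_ne_bot_of_finrank_lt (f := L) (by simp [Module.finrank_pi]))
  have hv' := LinearMap.mem_ker.1 hv
  obtain ⟨w, hw⟩ := exists_quad_of_pair huu hv0 (f_eq_zero_symm hf (congrArg Prod.fst hv'))
    (f_eq_zero_symm hf (congrArg Prod.snd hv'))
  exact ⟨u', v, w, hw⟩

theorem Quad.second (h : Quad u u' v v') : Quad v v' (-u) (-u') := by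
  have hf := sympForm_isSymplectic 2 F
  have hn : ∀ w : I4 → F, -w = (-1 : F) • w := fun w => (neg_one_smul F w).symm
  refine ⟨h.vv, ?_, ?_, ?_, ?_, ?_⟩ <;>
    simp only [hn, f_smul_left hf, f_smul_right hf, f_skew hf v u, f_skew hf v u', f_skew hf v' u,
      f_skew hf v' u', h.uu, h.uv, h.uv', h.u'v, h.u'v'] <;> ring

theorem Quad.swap (h : Quad u u' v v') : Quad v v' u u' := by
  have hf := sympForm_isSymplectic 2 F
  exact ⟨h.vv, h.uu, f_eq_zero_symm hf h.uv, f_eq_zero_symm hf h.u'v, f_eq_zero_symm hf h.uv',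
    f_eq_zero_symm hf h.u'v'⟩

theorem Quad.sum (h : Quad u u' v v') : Quad (u + v) u' v (v' - u') := by
  have hf := sympForm_isSymplectic 2 F
  refine ⟨?_, ?_, ?_, ?_, h.u'v, ?_⟩ <;>
    simp only [f_add_left hf, f_sub_right hf, f_self hf, f_skew hf v u', h.uu, h.vv, h.uv, h.uv', h.u'v,
      h.u'v'] <;> ring

/-! ### The representation -/

local notation "S4" => Cfsg.spGL 2 F

theorem mem_S4 {g : GL I4 F} : g ∈ Cfsg.spGL 2 F ↔
    ∀ x y, Cfsg.sympForm 2 F ((g : M4) *ᵥ x) ((g : M4) *ᵥ y) = Cfsg.sympForm 2 F x y := Iff.rfl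

theorem inv_adjoint (g : Cfsg.spGL 2 F) (x y : I4 → F) :
    Cfsg.sympForm 2 F (((g : GL I4 F) : M4) *ᵥ x) y =
      Cfsg.sympForm 2 F x (((g⁻¹ : Cfsg.spGL 2 F) : GL I4 F) *ᵥ y : I4 → F) := by
  conv_rhs => rw [← mem_S4.1 g.2, Matrix.mulVec_mulVec, Subgroup.coe_inv, ← Units.val_mul,
    mul_inv_cancel, Units.val_one, Matrix.one_mulVec]

theorem isW_conj (g : Cfsg.spGL 2 F) {X : Matrix I4 I4 F} (hX : IsW X) :
    IsW (((g : GL I4 F) : M4) * X * (((g⁻¹ : Cfsg.spGL 2 F) : GL I4 F) : M4)) := by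
  refine ⟨fun x y => ?_, ?_⟩
  · rw [← Matrix.mulVec_mulVec, ← Matrix.mulVec_mulVec, inv_adjoint, hX.1,
      ← Matrix.mulVec_mulVec, ← Matrix.mulVec_mulVec]
    conv_rhs => rw [← inv_inv g, inv_inv]
    have := inv_adjoint g⁻¹ x (X *ᵥ (((g⁻¹ : Cfsg.spGL 2 F) : GL I4 F) *ᵥ y : I4 → F))
    rw [inv_inv] at this
    exact this
  · rw [Subgroup.coe_inv, Matrix.trace_units_conj, hX.2]

section Rho

variable [Fact ((2 : F) ≠ 0)]

/-- The action on coordinates, as a linear map. -/
def rhoLin (g : Cfsg.spGL 2 F) : (Fin 5 → F) →ₗ[F] (Fin 5 → F) :=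
  psi ∘ₗ LinearMap.mulRight F (((g⁻¹ : Cfsg.spGL 2 F) : GL I4 F) : M4) ∘ₗ
    LinearMap.mulLeft F ((g : GL I4 F) : M4) ∘ₗ Phi

theorem Phi_rhoLin (g : Cfsg.spGL 2 F) (x : Fin 5 → F) : Phi (rhoLin g x) =
    ((g : GL I4 F) : M4) * Phi x * (((g⁻¹ : Cfsg.spGL 2 F) : GL I4 F) : M4) :=
  Phi_psi (Fact.out (p := (2 : F) ≠ 0)) (isW_conj g (isW_Phi x))

variable (F) in
/-- The representation of dimension five. -/
def rho : Cfsg.spGL 2 F →* GL (Fin 5) F :=
  MonoidHom.toHomUnits
    { toFun := fun g => LinearMap.toMatrix' (rhoLin g)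
      map_one' := by
        rw [← LinearMap.toMatrix'_id]
        congr 1
        apply LinearMap.ext; intro x
        apply Phi_injective
        rw [Phi_rhoLin]; simp
      map_mul' := fun g h => by
        rw [← LinearMap.toMatrix'_comp]
        congr 1
        apply LinearMap.ext; intro x
        apply Phi_injective
        rw [LinearMap.comp_apply, Phi_rhoLin, Phi_rhoLin, Phi_rhoLin]
        simp [mul_inv_rev, mul_assoc] }

theorem act_rho (g : Cfsg.spGL 2 F) (x : Fin 5 → F) : act (rho F g) x = rhoLin g x := by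
  simp [act_apply, rho, ← Matrix.toLin'_apply]

theorem Phi_act_rho (g : Cfsg.spGL 2 F) (x : Fin 5 → F) : Phi (act (rho F g) x) =
    ((g : GL I4 F) : M4) * Phi x * (((g⁻¹ : Cfsg.spGL 2 F) : GL I4 F) : M4) := by
  rw [act_rho, Phi_rhoLin]

theorem rho_mem_iso (g : Cfsg.spGL 2 F) : rho F g ∈ isometryGroup F (qf5 F) := by
  rw [Orth.mem_iso]
  intro x
  have h := Phi_sq (F := F) (act (rho F g) x)
  rw [Phi_act_rho] at h
  simp only [mul_assoc] at h
  rw [← mul_assoc ((((g⁻¹ : Cfsg.spGL 2 F) : GL I4 F) : M4)) _ _, Subgroup.coe_inv, Units.inv_mul, one_mul,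
    ← mul_assoc (Phi x) (Phi x), Phi_sq, Matrix.smul_mul, one_mul, Matrix.mul_smul, Units.mul_inv] at h
  have h' := congrFun (congrFun h (.inl 0)) (.inl 0)
  simpa using h'.symm

/-- The coordinates of an elementary operator. -/
def pc (u v : I4 → F) : Fin 5 → F := psi (P u v)

theorem Phi_pc (h : Cfsg.sympForm 2 F u v = 0) : Phi (pc u v) = P u v :=
  Phi_psi (Fact.out (p := (2 : F) ≠ 0)) (isW_P h)

theorem polar_pc (h : Cfsg.sympForm 2 F u v = 0) (x : Fin 5 → F) :
    B5 (pc u v) x = Cfsg.sympForm 2 F v (Phi x *ᵥ u) := by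
  have hf := sympForm_isSymplectic 2 F
  have h2 : (2 : F) ≠ 0 := Fact.out
  refine mul_left_cancel₀ h2 ?_
  rw [QuadraticMap.polar_comm, ← trace_Phi_mul h2, Phi_pc h, trace_mul_P, ← (isW_Phi x).1 u v,
    f_skew hf (Phi x *ᵥ u) v]
  ring

theorem qf5_pc (h : Cfsg.sympForm 2 F u v = 0) : qf5 F (pc u v) = 0 := by
  have hf := sympForm_isSymplectic 2 F
  have h2 : (2 : F) ≠ 0 := Fact.out
  have e := polar_pc h (pc u v)
  rw [Orth.B_self, Phi_pc h, P_mulVec, f_sub_right hf, f_smul_right hf, f_smul_right hf, f_self hf u,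
    f_self hf v, mul_zero, f_eq_zero_symm hf h, mul_zero, sub_zero] at e
  exact (mul_eq_zero.1 e).resolve_left h2

theorem rho_stv (h : Quad u u' v v') (c : F) :
    rho F ⟨stv (sympForm_isSymplectic 2 F) u c, stv_mem (sympForm_isSymplectic 2 F) u c⟩ =
      Orth.sg (qf5 F) (pc u v) ((-c) • pc u v') := by
  have hf := sympForm_isSymplectic 2 F
  have hb : B5 (pc u v) (pc u v') = 0 := by
    rw [polar_pc h.uv, Phi_pc h.uv', P_mulVec, f_sub_right hf, f_smul_right hf, f_smul_right hf, f_self hf u,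
      f_eq_zero_symm hf h.uv', zero_mul, zero_mul, sub_zero]
  have hk : B5 (pc u v) ((-c) • pc u v') = 0 := by rw [Orth.B_smul_right, hb, mul_zero]
  apply gl_ext; intro x
  apply Phi_injective
  rw [Phi_act_rho, Orth.act_sg _ (qf5_pc h.uv) hk, map_sub, map_add, map_smul, map_smul, map_smul, Phi_pc h.uv,
    Phi_pc h.uv', Orth.Q_smul, qf5_pc h.uv', Orth.B_smul_left, polar_pc h.uv, polar_pc h.uv', mul_zero, zero_mul,
    add_zero]
  apply Matrix.toLin'.injective
  apply LinearMap.ext; intro z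
  set X := Phi x
  have hXa := (isW_Phi x).1
  have hinv : ((((⟨stv hf u c, stv_mem hf u c⟩ : Cfsg.spGL 2 F)⁻¹ : Cfsg.spGL 2 F) : GL I4 F)) =
      stv hf u (-c) := by
    rw [Subgroup.coe_inv]; exact inv_eq_of_mul_eq_one_right (by rw [stv_add, add_neg_cancel, stv_zero])
  have hsf : Cfsg.sympForm 2 F (X *ᵥ u) u = 0 := by
    have := f_skew hf (X *ᵥ u) u
    rw [← hXa u u] at this
    exact (mul_eq_zero.1 (show (2 : F) * Cfsg.sympForm 2 F (X *ᵥ u) u = 0 by
      linear_combination this)).resolve_left Fact.out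
  simp only [Matrix.toLin'_apply, hinv, ← Matrix.mulVec_mulVec, Matrix.add_mulVec, Matrix.sub_mulVec,
    Matrix.smul_mulVec, P_mulVec]
  simp only [← act_apply]
  rw [act_stv hf, act_stv hf]
  rw [Matrix.mulVec_add, Matrix.mulVec_smul, f_add_left hf, f_smul_left hf, hsf, hXa z u]
  have hX := h.expand (X *ᵥ u)
  rw [hsf, zero_smul, sub_zero] at hX
  rw [show Cfsg.sympForm 2 F z (X *ᵥ u) = Cfsg.sympForm 2 F z
      (Cfsg.sympForm 2 F (X *ᵥ u) u' • u + Cfsg.sympForm 2 F (X *ᵥ u) v' • v -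
        Cfsg.sympForm 2 F (X *ᵥ u) v • v') by rw [← hX]]
  simp only [f_add_right hf, f_sub_right hf, f_smul_right hf, f_skew hf v (X *ᵥ u), f_skew hf v' (X *ᵥ u),
    f_skew hf v z, f_skew hf v' z, f_skew hf u z]
  linear_combination (norm := module) (-c * Cfsg.sympForm 2 F z u) • hX

theorem rho_range_le [Finite F] : (rho F).range ≤ Cfsg.Geo.omegaGL (qf5 F) := by
  have hf := sympForm_isSymplectic 2 F
  let N := (Cfsg.Geo.omegaGL (qf5 F)).comap (rho F)
  have hN : isoGroup (Cfsg.sympForm 2 F) ≤ N.map (Cfsg.spGL 2 F).subtype := by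
    refine isoGroup_le_of_full hf _ fun u c => ⟨⟨stv hf u c, stv_mem hf u c⟩, ?_, rfl⟩
    show rho F ⟨stv hf u c, stv_mem hf u c⟩ ∈ Cfsg.Geo.omegaGL (qf5 F)
    rcases eq_or_ne u 0 with rfl | hu
    · have : stv hf (0 : I4 → F) c = 1 := by
        apply gl_ext; intro x; rw [act_stv hf, act_one]; simp
      rw [show (⟨stv hf 0 c, stv_mem hf 0 c⟩ : Cfsg.spGL 2 F) = 1 from Subtype.ext this, map_one]
      exact one_mem _
    obtain ⟨u', v, v', h⟩ := exists_quad hu
    rw [rho_stv h]
    exact Orth.sg_mem_omega (nondeg_qf5 Fact.out) (by simp) _ _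
  rintro _ ⟨g, rfl⟩
  obtain ⟨g', hg', e⟩ := hN g.2
  rw [show g = g' from Subtype.ext e.symm]
  exact hg'

theorem exists_quad_of_singular {x : Fin 5 → F} (hx : x ≠ 0) (hQ : qf5 F x = 0) :
    ∃ u u' v v', Quad u u' v v' ∧ x = pc u v := by
  have hf := sympForm_isSymplectic 2 F
  have h2 : (2 : F) ≠ 0 := Fact.out
  set X := Phi x with hX
  have hXX : ∀ z, X *ᵥ (X *ᵥ z) = 0 := fun z => by
    rw [Matrix.mulVec_mulVec, hX, Phi_sq, hQ, zero_smul, Matrix.zero_mulVec]
  have hXa := (isW_Phi x).1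
  have hdiag : ∀ z, Cfsg.sympForm 2 F (X *ᵥ z) z = 0 := fun z => by
    have := f_skew hf (X *ᵥ z) z
    rw [← hXa z z] at this
    exact (mul_eq_zero.1 (show (2 : F) * Cfsg.sympForm 2 F (X *ᵥ z) z = 0 by
      linear_combination this)).resolve_left h2
  obtain ⟨z, hz⟩ : ∃ z, X *ᵥ z ≠ 0 := by
    by_contra hno; push Not at hno
    refine hx (Phi_injective ?_)
    rw [map_zero]
    exact Matrix.toLin'.injective (LinearMap.ext fun z => by simpa [← hX] using hno z)
  obtain ⟨u, hu⟩ : ∃ u, u = X *ᵥ z := ⟨_, rfl⟩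
  rw [← hu] at hz
  have hXu : X *ᵥ u = 0 := hu ▸ hXX z
  obtain ⟨y, hy⟩ := (hf.nondegenerate u hz).2
  obtain ⟨u', hu', huu⟩ : ∃ u', u' = (Cfsg.sympForm 2 F u y)⁻¹ • y ∧ Cfsg.sympForm 2 F u u' = 1 :=
    ⟨_, rfl, by rw [f_smul_right hf, inv_mul_cancel₀ hy]⟩
  obtain ⟨v, hv⟩ : ∃ v, v = X *ᵥ u' := ⟨_, rfl⟩
  have hv0 : v ≠ 0 := fun e => one_ne_zero (α := F) (by
    rw [← huu, hu, hXa, ← hv, e, f_zero_right hf])
  have huv : Cfsg.sympForm 2 F u v = 0 := by rw [hv, ← hXa, hXu, f_zero_left hf]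
  have hu'v : Cfsg.sympForm 2 F u' v = 0 := by rw [hv, ← hXa, hdiag]
  obtain ⟨v', h⟩ := exists_quad_of_pair huu hv0 huv hu'v
  have hXv : X *ᵥ v = 0 := hv ▸ hXX u'
  have hXv' : X *ᵥ v' = -u := by
    have e := h.expand (X *ᵥ v')
    rw [hXa v' u, hXu, f_zero_right hf, hXa v' v, hXv, f_zero_right hf, hdiag, hXa v' u', ← hv,
      f_skew hf v' v, h.vv] at e
    rw [e]; module
  refine ⟨v, v', u, u', h.swap, Phi_injective ?_⟩
  rw [Phi_pc h.swap.uv]
  apply Matrix.toLin'.injective
  apply LinearMap.ext; intro w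
  simp only [Matrix.toLin'_apply]
  rw [h.expand w]
  simp only [Matrix.mulVec_sub, Matrix.mulVec_add, Matrix.mulVec_smul, ← hX, hXu, ← hv, hXv, hXv', P_mulVec]
  have hn : -u = (-1 : F) • u := (neg_one_smul F u).symm
  simp only [hn, f_smul_left hf, f_self hf, f_skew hf u' u, f_skew hf v u, f_skew hf v' u, f_skew hf v u',
    f_skew hf v' v, h.uu, h.vv, h.uv, h.uv', h.u'v]
  module

theorem omega_le_range [Finite F] : Cfsg.Geo.omegaGL (qf5 F) ≤ (rho F).range := by
  have hf := sympForm_isSymplectic 2 F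
  have h2 : (2 : F) ≠ 0 := Fact.out
  have hQ := nondeg_qf5 (F := F) h2
  rw [Orth.omega_eq_sgGroup hQ (by simp), Orth.sgGroup, Subgroup.closure_le]
  rintro _ ⟨⟨x, w⟩, rfl⟩
  show Orth.sg (qf5 F) x w ∈ (rho F).range
  by_cases hxw : qf5 F x = 0 ∧ B5 x w = 0
  swap
  · rw [Orth.sg_of_not _ hxw]; exact one_mem _
  obtain ⟨hx, hxw⟩ := hxw
  rcases eq_or_ne x 0 with rfl | hx0
  · have : Orth.sg (qf5 F) 0 w = 1 := by
      apply gl_ext; intro y
      rw [Orth.act_sg _ hx hxw, act_one, Orth.B_zero_left]; simp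
    rw [this]; exact one_mem _
  obtain ⟨u, u', v, v', h, rfl⟩ := exists_quad_of_singular hx0 hx
  have hroot : ∀ {a a' b b' : I4 → F}, Quad a a' b b' → ∀ c : F,
      Orth.sg (qf5 F) (pc a b) (c • pc a b') ∈ (rho F).range := fun {a a' b b'} hab c =>
    ⟨_, (rho_stv hab (-c)).trans (by rw [neg_neg])⟩
  let T : Submodule F (Fin 5 → F) :=
    { carrier := {w | B5 (pc u v) w = 0 ∧ ∀ c : F, Orth.sg (qf5 F) (pc u v) (c • w) ∈ (rho F).range}
      add_mem' := by
        rintro a b ⟨ha, ha'⟩ ⟨hb, hb'⟩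
        refine ⟨by rw [Orth.B_add_right, ha, hb, add_zero], fun c => ?_⟩
        rw [smul_add, ← Orth.sg_add _ hx (by rw [Orth.B_smul_right, ha, mul_zero])
          (by rw [Orth.B_smul_right, hb, mul_zero])]
        exact mul_mem (ha' c) (hb' c)
      zero_mem' := ⟨Orth.B_zero_right _ _, fun c => by rw [smul_zero, Orth.sg_zero]; exact one_mem _⟩
      smul_mem' := by
        rintro r a ⟨ha, ha'⟩
        exact ⟨by rw [Orth.B_smul_right, ha, mul_zero], fun c => by rw [smul_smul]; exact ha' _⟩ }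
  have hperp : ∀ {b : I4 → F} {a : I4 → F}, Cfsg.sympForm 2 F a b = 0 → Cfsg.sympForm 2 F v a * Cfsg.sympForm 2 F b u
      - Cfsg.sympForm 2 F v b * Cfsg.sympForm 2 F a u = 0 → B5 (pc u v) (pc a b) = 0 := fun {b a} hab e => by
    rw [polar_pc h.uv, Phi_pc hab, P_mulVec, f_sub_right hf, f_smul_right hf, f_smul_right hf]
    linear_combination e
  have e2 : pc v (-u) = pc u v := by
    apply Phi_injective
    rw [Phi_pc h.second.uv, Phi_pc h.uv, P, P, Matrix.neg_vecMulVec, Matrix.neg_vecMul, Matrix.vecMulVec_neg]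
    abel
  have e3 : pc (u + v) v = pc u v := by
    apply Phi_injective
    rw [Phi_pc h.sum.uv, Phi_pc h.uv, P, P, Matrix.add_vecMulVec, Matrix.add_vecMul, Matrix.vecMulVec_add]
    abel
  have m0 : pc u v ∈ T := by
    refine ⟨Orth.B_self_of_singular _ hx, fun c => ?_⟩
    have := Orth.sg_add_smul (qf5 F) hx (w := 0) (Orth.B_zero_right _ _) c
    rw [zero_add, Orth.sg_zero] at this
    rw [this]; exact one_mem _
  have m1 : pc u v' ∈ T := ⟨hperp h.uv' (by rw [f_self hf, f_eq_zero_symm hf h.uv]; ring), fun c => hroot h c⟩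
  have m2 : pc v (-u') ∈ T := ⟨hperp h.second.uv' (by
    rw [f_self hf, f_eq_zero_symm hf h.uv]; ring), fun c => e2 ▸ hroot h.second c⟩
  have m3 : pc (u + v) (v' - u') ∈ T := ⟨hperp h.sum.uv' (by
    simp only [f_add_left hf, f_add_right hf, f_sub_left hf, f_sub_right hf, f_self hf, h.vv,
      f_eq_zero_symm hf h.uv, f_eq_zero_symm hf h.uv', f_skew hf u' u, h.uu, f_eq_zero_symm hf h.u'v]
    ring), fun c => e3 ▸ hroot h.sum c⟩
  have hli : LinearIndependent F ![pc u v, pc u v', pc v (-u'), pc (u + v) (v' - u')] := by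
    rw [Fintype.linearIndependent_iff]
    intro g hg
    simp [Fin.sum_univ_four] at hg
    have hP := congrArg (fun y => Phi y) hg
    simp only [map_add, map_smul, map_zero, Phi_pc h.uv, Phi_pc h.uv', Phi_pc h.second.uv', Phi_pc h.sum.uv'] at hP
    have ev : ∀ z w : I4 → F, Cfsg.sympForm 2 F
        ((g 0 • P u v + g 1 • P u v' + g 2 • P v (-u') + g 3 • P (u + v) (v' - u')) *ᵥ z) w = 0 := fun z w => by
      rw [hP, Matrix.zero_mulVec, f_zero_left hf]
    have hn : -u' = (-1 : F) • u' := (neg_one_smul F u').symm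
    simp only [Matrix.add_mulVec, Matrix.smul_mulVec, P_mulVec, hn] at ev
    have z1 := ev u u'; have z2 := ev u v'; have z3 := ev v u'; have z4 := ev u' v'
    simp only [f_add_left hf, f_sub_left hf, f_smul_left hf, f_add_right hf, f_sub_right hf,
      f_smul_right hf, f_self hf, f_skew hf u' u, f_skew hf v u, f_skew hf v' u, f_skew hf v u', f_skew hf v' u',
      f_skew hf v' v, h.uu, h.vv, h.uv, h.uv', h.u'v, h.u'v'] at z1 z2 z3 z4
    ring_nf at z1 z2 z3 z4
    have g3 : g 3 = 0 := by first | linear_combination z1 | linear_combination -z1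
    have g2 : g 2 = 0 := by
      first
        | linear_combination z2 - g3
        | linear_combination z2 + g3
        | linear_combination -z2 + g3
        | linear_combination -z2 - g3
    have g1 : g 1 = 0 := by
      first
        | linear_combination z3
        | linear_combination -z3
        | linear_combination z3 - g3
        | linear_combination z3 + g3
        | linear_combination -z3 + g3
        | linear_combination -z3 - g3
    have g0 : g 0 = 0 := by
      first | linear_combination z4 | linear_combination -z4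
    intro i; fin_cases i <;> assumption
  have hT : T = Orth.perp (qf5 F) (F ∙ pc u v) := by
    refine Submodule.eq_of_le_of_finrank_le (fun y hy => ?_) ?_
    · intro z hz
      obtain ⟨a, rfl⟩ := Submodule.mem_span_singleton.1 hz
      rw [QuadraticMap.polarBilin_apply_apply, Orth.B_smul_left, hy.1, mul_zero]
    · rw [Orth.finrank_perp hQ, finrank_span_singleton hx0, Fintype.card_fin]
      have hle : Submodule.span F (Set.range ![pc u v, pc u v', pc v (-u'), pc (u + v) (v' - u')]) ≤ T := by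
        rw [Submodule.span_le]
        rintro _ ⟨i, rfl⟩
        fin_cases i <;> assumption
      have := Submodule.finrank_mono hle
      rw [finrank_span_eq_card hli, Fintype.card_fin] at this
      omega
  have hw : w ∈ T := by
    rw [hT]
    intro z hz
    obtain ⟨a, rfl⟩ := Submodule.mem_span_singleton.1 hz
    rw [QuadraticMap.polarBilin_apply_apply, Orth.B_smul_left, hxw, mul_zero]
  simpa using hw.2 1

/-- The image is the derived orthogonal group. -/
theorem rho_range [Finite F] : (rho F).range = Cfsg.Geo.omegaGL (qf5 F) :=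
  le_antisymm rho_range_le omega_le_range

end Rho

end Cfsg.Agent.MaxCl.SpFour
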