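/-
A group of symplectic type and minus type with thirty-two elements gives an orthogonal frame of five self-adjoint
involutions; its normaliser is the stabiliser of that frame, and so is maximal.
-/
import Cfsg.Agent.Lib.MaxCl.SpFour.Five
import Cfsg.Agent.Lib.MaxCl.Mono.Maximal
import Cfsg.Agent.Lib.TI.SymplecticFour

set_option autoImplicit false

namespace Cfsg.Agent.MaxCl.SpFour

open scoped MatrixGroups Matrix
open Module (finrank)

variable {F : Type*} [Field F]

local notation "M4" => Matrix I4 I4 F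

/-- What is used of the group. -/
structure Data (R : Subgroup (GL I4 F)) : Prop where
  le : R ≤ Cfsg.spGL 2 F
  center : ∀ x : R, x ∈ Subgroup.center R → ((x : GL I4 F) : M4) = 1 ∨ ((x : GL I4 F) : M4) = -1
  cardZ : Nat.card (Subgroup.center R) = 2
  card : Nat.card R = 32
  comm : ∀ x y : R, ((x : GL I4 F) : M4) * ((y : GL I4 F) : M4) = ((y : GL I4 F) : M4) * ((x : GL I4 F) : M4) ∨
    ((x : GL I4 F) : M4) * ((y : GL I4 F) : M4) = -(((y : GL I4 F) : M4) * ((x : GL I4 F) : M4))
  sq : ∀ x : R, ((x : GL I4 F) : M4) * ((x : GL I4 F) : M4) = 1 ∨ ((x : GL I4 F) : M4) * ((x : GL I4 F) : M4) = -1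
  minus : Cfsg.Geo.IsOfMinusType 2 R

theorem data_of {R : Subgroup (GL I4 F)} (hS : Cfsg.Geo.IsSymplecticTypeGroup 2 R)
    (habs : Cfsg.Geo.ActsAbsolutelyIrreducibly (Cfsg.Geo.matrixSet R)) (hle : R ≤ Cfsg.spGL 2 F)
    (hcard : Nat.card R = 32) (hZ : Nat.card (Subgroup.center R) = 2) (hminus : Cfsg.Geo.IsOfMinusType 2 R) :
    Data R := by
  have hf := sympForm_isSymplectic 2 F
  haveI : Finite R := Nat.finite_of_card_ne_zero (by omega)
  have hcen : ∀ x : R, x ∈ Subgroup.center R → ((x : GL I4 F) : M4) = 1 ∨ ((x : GL I4 F) : M4) = -1 := by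
    intro x hx
    obtain ⟨c, hc⟩ := habs.2 ((x : GL I4 F) : M4) (by
      rintro _ ⟨y, hy, rfl⟩
      exact (congrArg (fun g : R => ((g : GL I4 F) : M4)) (Subgroup.mem_center_iff.1 hx ⟨y, hy⟩)).symm)
    obtain ⟨u, hu⟩ := exists_ne (0 : I4 → F)
    obtain ⟨y, hy⟩ := (hf.nondegenerate u hu).2
    have h := mem_S4.1 (hle x.2) u y
    rw [hc, Matrix.smul_mulVec, Matrix.smul_mulVec, Matrix.one_mulVec, Matrix.one_mulVec, f_smul_left hf,
      f_smul_right hf, ← mul_assoc, mul_eq_right₀ hy] at h
    rcases mul_self_eq_one_iff.1 h with rfl | rfl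
    · exact Or.inl (by rw [hc, one_smul])
    · exact Or.inr (by rw [hc, neg_one_smul])
  obtain ⟨z, hz⟩ := exists_prime_orderOf_dvd_card' (G := Subgroup.center R) 2 (by rw [hZ])
  have hz2 : (z : R) * z = 1 := by
    have h := pow_orderOf_eq_one z
    rw [hz, pow_two] at h
    exact congrArg Subtype.val h
  have hz1 : (z : R) ≠ 1 := fun h => by
    rw [show z = 1 from Subtype.ext h, orderOf_one] at hz
    omega
  have h4 : ∀ x : R, x ^ 4 = 1 := fun x => by
    have h := Monoid.pow_exponent_eq_one x
    rwa [hS.exponent_eq] at h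
  obtain ⟨hcomm, hsq⟩ := TI.commutator_and_square_mem ⟨hS.pGroup, hS.cyclic_of_characteristic⟩ h4 z.2 hz2 hz1
  refine ⟨hle, hcen, hZ, hcard, fun x y => ?_, fun x => ?_, hminus⟩
  · rcases hcomm x y with h | h
    · exact Or.inl (congrArg (fun g : R => ((g : GL I4 F) : M4)) (commutatorElement_eq_one_iff_mul_comm.1 h))
    · have h' : x * y = (z : R) * (y * x) := by rw [← h, commutatorElement_def]; group
      have h'' := congrArg (fun g : R => ((g : GL I4 F) : M4)) h'
      simp only [Subgroup.coe_mul, Units.val_mul] at h''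
      rcases hcen _ z.2 with e | e <;> rw [e] at h''
      · exact Or.inl (by rw [h'', one_mul])
      · exact Or.inr (by rw [h'', neg_one_mul])
  · rcases hsq x with h | h
    · exact Or.inl (by
        have := congrArg (fun g : R => ((g : GL I4 F) : M4)) h
        simpa using this)
    · have h'' := congrArg (fun g : R => ((g : GL I4 F) : M4)) h
      simp only [Subgroup.coe_mul, Units.val_mul] at h''
      rcases hcen _ z.2 with e | e <;> rw [e] at h''
      · exact Or.inl h''
      · exact Or.inr h''

variable {R : Subgroup (GL I4 F)} (hR : Data R)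
include hR

theorem Data.exists_neg_one : ∃ z : R, ((z : GL I4 F) : M4) = -1 := by
  haveI : Finite (Subgroup.center R) := Nat.finite_of_card_ne_zero (by rw [hR.cardZ]; omega)
  obtain ⟨z, hz⟩ : ∃ z : Subgroup.center R, z ≠ 1 := by
    by_contra hno; push Not at hno
    have := hR.cardZ
    rw [Nat.card_eq_one_iff_unique.2 ⟨⟨fun a b => (hno a).trans (hno b).symm⟩, ⟨1⟩⟩] at this
    omega
  refine ⟨z, (hR.center z z.2).resolve_left fun e => hz (Subtype.ext (Subtype.ext (Units.ext e)))⟩

theorem Data.trace_eq_zero (h2 : (2 : F) ≠ 0) {x : R} (hx : x ∉ Subgroup.center R) :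
    ((x : GL I4 F) : M4).trace = 0 := by
  obtain ⟨y, hy⟩ : ∃ y : R, y * x ≠ x * y := by
    by_contra hno; push Not at hno
    exact hx (Subgroup.mem_center_iff.2 hno)
  have h := (hR.comm y x).resolve_left fun e => hy (Subtype.ext (Units.ext e))
  have e : ((y : GL I4 F) : M4) * ((x : GL I4 F) : M4) * (((y : GL I4 F)⁻¹ : GL I4 F) : M4) =
      -((x : GL I4 F) : M4) := by
    rw [h, Matrix.neg_mul, mul_assoc, Units.mul_inv, mul_one]
  have h' := congrArg Matrix.trace e
  rw [Matrix.trace_units_conj, Matrix.trace_neg] at h'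
  exact (mul_eq_zero.1 (show (2 : F) * ((x : GL I4 F) : M4).trace = 0 by linear_combination h')).resolve_left h2

variable [Fact ((2 : F) ≠ 0)]

/-- The frame of the self-adjoint involutions of the group. -/
theorem Data.exists_frame : ∃ e : Fin 5 → (Fin 5 → F), Mono.Frame (qf5 F) e 1 ∧
    (∀ i, ∃ r : R, ((r : GL I4 F) : M4) = Phi (e i)) ∧
    ∀ r : R, r ∉ Subgroup.center R → ((r : GL I4 F) : M4) * ((r : GL I4 F) : M4) = 1 →
      ∃ i, ((r : GL I4 F) : M4) = Phi (e i) ∨ ((r : GL I4 F) : M4) = -Phi (e i) := by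
  classical
  have hf := sympForm_isSymplectic 2 F
  have h2 : (2 : F) ≠ 0 := Fact.out
  haveI : Finite R := Nat.finite_of_card_ne_zero (by rw [hR.card]; omega)
  obtain ⟨z, hz⟩ := hR.exists_neg_one
  -- coset representatives
  haveI := Fintype.ofFinite (R ⧸ Subgroup.center R)
  let t : R ⧸ Subgroup.center R → M4 := fun a => ((a.out : R) : GL I4 F)
  have ht4 : (4 : F) ≠ 0 := by rw [show (4 : F) = 2 * 2 by norm_num]; exact mul_ne_zero h2 h2
  have hzz : ∀ x : R, x ∈ Subgroup.center R → x = 1 ∨ x = z := fun x hx => by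
    rcases hR.center x hx with e | e
    · exact Or.inl (Subtype.ext (Units.ext e))
    · exact Or.inr (Subtype.ext (Units.ext (e.trans hz.symm)))
  have hinv : ∀ r : R, (((r : GL I4 F)⁻¹ : GL I4 F) : M4) = ((r⁻¹ : R) : GL I4 F) := fun r => rfl
  have horth : ∀ a b, a ≠ b → (t a * ((((b.out : R)⁻¹ : R) : GL I4 F) : M4)).trace = 0 := by
    intro a b hab
    rw [← Units.val_mul, ← Subgroup.coe_mul]
    refine hR.trace_eq_zero h2 fun hc => hab ?_
    rw [← a.out_eq', ← b.out_eq']
    refine (QuotientGroup.eq.2 ?_).symm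
    have h := Subgroup.Normal.conj_mem (inferInstance : (Subgroup.center R).Normal) _ hc (b.out : R)⁻¹
    simpa [mul_assoc] using h
  have hself : ∀ a, (t a * ((((a.out : R)⁻¹ : R) : GL I4 F) : M4)).trace = 4 := by
    intro a
    rw [← Units.val_mul, ← Subgroup.coe_mul, mul_inv_cancel, Subgroup.coe_one, Units.val_one, Matrix.trace_one]
    norm_num
  have hli : LinearIndependent F t := by
    rw [Fintype.linearIndependent_iff]
    intro g hg b
    have h := congrArg (fun X : M4 => (X * ((((b.out : R)⁻¹ : R) : GL I4 F) : M4)).trace) hg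
    simp only [Finset.sum_mul, Matrix.trace_sum, Matrix.smul_mul, Matrix.trace_smul, smul_eq_mul,
      Matrix.zero_mul, Matrix.trace_zero] at h
    rw [Finset.sum_eq_single b (fun a _ hab => by rw [horth a b hab, mul_zero])
      (fun h => absurd (Finset.mem_univ b) h), hself] at h
    exact (mul_eq_zero.1 h).resolve_right ht4
  have hcardq : Fintype.card (R ⧸ Subgroup.center R) = 16 := by
    have h := Subgroup.card_eq_card_quotient_mul_card_subgroup (Subgroup.center R)
    rw [hR.card, hR.cardZ, Nat.card_eq_fintype_card] at h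
    omega
  haveI : Nonempty (R ⧸ Subgroup.center R) := ⟨QuotientGroup.mk 1⟩
  have htop : Submodule.span F (Set.range t) = ⊤ :=
    hli.span_eq_top_of_card_eq_finrank (by
      rw [hcardq, Module.finrank_matrix, Fintype.card_sum, Fintype.card_fin, Module.finrank_self])
  -- the adjoint of a representative
  have hadj : ∀ (r : R) (s : F), ((r : GL I4 F) : M4) * ((r : GL I4 F) : M4) = s • 1 → ∀ u v,
      Cfsg.sympForm 2 F u (((r : GL I4 F) : M4) *ᵥ v) = s * Cfsg.sympForm 2 F (((r : GL I4 F) : M4) *ᵥ u) v := by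
    intro r s hs u v
    have h := mem_S4.1 (hR.le r.2) u ((((r : GL I4 F) : M4)) *ᵥ v)
    rw [Matrix.mulVec_mulVec, hs, Matrix.smul_mulVec, Matrix.one_mulVec, f_smul_right hf] at h
    exact h.symm
  let G : Finset (R ⧸ Subgroup.center R) :=
    Finset.univ.filter fun a => a ≠ QuotientGroup.mk 1 ∧ t a * t a = 1
  have hnc : ∀ a, a ≠ (QuotientGroup.mk 1 : R ⧸ Subgroup.center R) → (a.out : R) ∉ Subgroup.center R := by
    intro a ha hc
    apply ha
    rw [← a.out_eq']
    exact QuotientGroup.eq.2 (by simpa using hc)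
  have hW : ∀ a ∈ G, IsW (t a) := by
    intro a ha
    rw [Finset.mem_filter] at ha
    refine ⟨fun u v => ?_, hR.trace_eq_zero h2 (hnc a ha.2.1)⟩
    rw [hadj a.out 1 (by rw [one_smul]; exact ha.2.2) u v, one_mul]
  have hspan : ∀ x : Fin 5 → F, x ∈ Submodule.span F (Set.range fun a : G => psi (t a)) := by
    intro x
    obtain ⟨g, hg⟩ := (Submodule.mem_span_range_iff_exists_fun F).1 (htop.ge (Submodule.mem_top (x := Phi x)))
    let sg : R ⧸ Subgroup.center R → F := fun a => if t a * t a = 1 then 1 else -1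
    have hsg : ∀ a, t a * t a = sg a • (1 : M4) := fun a => by
      simp only [sg]; split_ifs with h
      · rw [one_smul, h]
      · rw [neg_one_smul]; exact (hR.sq a.out).resolve_left h
    have hzero : ∀ a, g a * (1 - sg a) = 0 := by
      have hsum : ∑ a, (g a * (1 - sg a)) • t a = 0 := by
        apply Matrix.toLin'.injective
        apply LinearMap.ext; intro u
        simp only [Matrix.toLin'_apply, map_zero, LinearMap.zero_apply]
        apply flin_injective hf
        apply LinearMap.ext; intro v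
        rw [flin_apply, flin_apply, f_zero_right hf]
        have h := (isW_Phi x).1 v u
        rw [← hg, Matrix.sum_mulVec, Matrix.sum_mulVec, ← flin_apply hf.bilinear u, map_sum,
          ← toBil_apply hf.bilinear v, map_sum] at h
        rw [Matrix.sum_mulVec, ← toBil_apply hf.bilinear v, map_sum]
        simp only [Matrix.smul_mulVec, map_smul, smul_eq_mul, flin_apply, toBil_apply] at h ⊢
        rw [show ∑ a, g a * (1 - sg a) * Cfsg.sympForm 2 F v (t a *ᵥ u) =
          ∑ a, (g a * Cfsg.sympForm 2 F v (t a *ᵥ u) - g a * Cfsg.sympForm 2 F (t a *ᵥ v) u) from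
          Finset.sum_congr rfl fun a _ => by
            have e := hadj a.out (sg a) (hsg a) v u
            have e' : sg a * sg a = 1 := by simp only [sg]; split_ifs <;> ring
            linear_combination (-g a * sg a) * e - (g a * Cfsg.sympForm 2 F (t a *ᵥ v) u) * e']
        rw [Finset.sum_sub_distrib, h, sub_self]
      exact fun a => Fintype.linearIndependent_iff.1 hli _ hsum a
    have h0 : g (QuotientGroup.mk 1) = 0 := by
      have hc : ((QuotientGroup.mk 1 : R ⧸ Subgroup.center R).out : R) ∈ Subgroup.center R := by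
        have := QuotientGroup.eq.1 (Quotient.out_eq' (QuotientGroup.mk (1 : R) : R ⧸ Subgroup.center R))
        simpa using this
      have htr := (isW_Phi x).2
      rw [← hg, Matrix.trace_sum, Finset.sum_eq_single (QuotientGroup.mk 1 : R ⧸ Subgroup.center R)
        (fun a _ ha => by
          rw [Matrix.trace_smul, hR.trace_eq_zero h2 (hnc a ha), smul_zero])
        (fun h => absurd (Finset.mem_univ _) h), Matrix.trace_smul, smul_eq_mul, mul_eq_zero] at htr
      refine htr.resolve_right ?_
      rcases hR.center _ hc with e | e <;> rw [show t (QuotientGroup.mk 1) = _ from e] <;>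
        simp [Matrix.trace_neg, Matrix.trace_one, ht4]
    rw [← psi_Phi x, ← hg, map_sum]
    refine Submodule.sum_mem _ fun a _ => ?_
    rw [map_smul]
    by_cases hga : g a = 0
    · rw [hga, zero_smul]; exact Submodule.zero_mem _
    refine Submodule.smul_mem _ _ (Submodule.subset_span ⟨⟨a, Finset.mem_filter.2 ⟨Finset.mem_univ _, ?_, ?_⟩⟩, rfl⟩)
    · rintro rfl; exact hga h0
    · have h := (mul_eq_zero.1 (hzero a)).resolve_left hga
      by_contra hne
      simp only [sg, if_neg hne] at h
      exact h2 (by linear_combination h)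
  have hG : LinearIndependent F fun a : G => psi (t a) := by
    refine LinearIndependent.of_comp Phi ?_
    have e : (⇑(Phi (F := F)) ∘ fun a : G => psi (t a)) = fun a : G => t a :=
      funext fun a => Phi_psi h2 (hW a a.2)
    rw [e]
    exact hli.comp _ Subtype.val_injective
  have h5 : Fintype.card G = 5 := by
    have h := finrank_span_eq_card hG
    rw [show Submodule.span F (Set.range fun a : G => psi (t a)) = ⊤ from eq_top_iff.2 fun x _ => hspan x,
      finrank_top, Module.finrank_pi, Fintype.card_fin] at h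
    exact h.symm
  let σ : Fin 5 ≃ G := (Fintype.equivFinOfCardEq h5).symm
  have hPhi : ∀ i, Phi (psi (t (σ i))) = t (σ i) := fun i => Phi_psi h2 (hW _ (σ i).2)
  refine ⟨fun i => psi (t (σ i)), ⟨fun i => ?_, one_ne_zero, h2, fun i j hij => ?_, ?_⟩,
    fun i => ⟨(σ i).1.out, (hPhi i).symm⟩, fun r hr hr1 => ?_⟩
  · have h := Phi_sq (F := F) (psi (t (σ i)))
    rw [hPhi, (Finset.mem_filter.1 (σ i).2).2.2] at h
    simpa using (congrFun (congrFun h (.inl 0)) (.inl 0)).symm
  · -- distinct involutions anticommute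
    have hne : ((σ i).1 : R ⧸ Subgroup.center R) ≠ (σ j).1 := fun e => hij (σ.injective (Subtype.ext e))
    have hanti : t (σ i) * t (σ j) = -(t (σ j) * t (σ i)) := by
      refine (hR.comm (σ i).1.out (σ j).1.out).resolve_left fun hc => ?_
      have hx : ((σ i).1.out : R) * (σ j).1.out = (σ j).1.out * (σ i).1.out := Subtype.ext (Units.ext hc)
      obtain ⟨x, hxdef⟩ : ∃ x, x = ((σ i).1.out : R) := ⟨_, rfl⟩
      obtain ⟨y, hydef⟩ : ∃ y, y = ((σ j).1.out : R) := ⟨_, rfl⟩
      rw [← hxdef, ← hydef] at hx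
      have hx2 : x * x = 1 := Subtype.ext (Units.ext (hxdef ▸ (Finset.mem_filter.1 (σ i).2).2.2))
      have hy2 : y * y = 1 := Subtype.ext (Units.ext (hydef ▸ (Finset.mem_filter.1 (σ j).2).2.2))
      have hz2 : z * z = 1 := Subtype.ext (Units.ext (by simp [hz]))
      have hzc : ∀ w : R, w * z = z * w := fun w => Subtype.ext (Units.ext (by simp [hz]))
      let A : Subgroup R := Subgroup.closure {z, x, y}
      have hcomm : ∀ a ∈ ({z, x, y} : Set R), ∀ b ∈ ({z, x, y} : Set R), a * b = b * a := by
        intro a ha b hb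
        rcases ha with rfl | rfl | rfl <;> rcases hb with rfl | rfl | rfl <;>
          first | rfl | exact hzc _ | exact (hzc _).symm | exact hx | exact hx.symm
      have hA : IsMulCommutative A := Subgroup.isMulCommutative_closure hcomm
      have hAsq : ∀ a ∈ A, a * a = 1 := by
        intro a ha
        induction ha using Subgroup.closure_induction with
        | mem a ha =>
          rcases ha with rfl | rfl | rfl
          · exact Subtype.ext (Subtype.ext_iff.1 hz2)
          · exact hx2
          · exact hy2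
        | one => rw [one_mul]
        | mul a b ha hb iha ihb =>
          have e : b * a = a * b := congrArg Subtype.val (hA.is_comm.comm ⟨b, hb⟩ ⟨a, ha⟩)
          rw [mul_assoc, ← mul_assoc b, e, mul_assoc a b b, ihb, mul_one, iha]
        | inv a ha iha => rw [← mul_inv_rev, iha, inv_one]
      have hm := hR.minus A hA hAsq
      let φ : Subgroup.center R × Fin 4 → A := fun p => ⟨(p.1 : R) * ![1, x, y, x * y] p.2, by
        refine A.mul_mem ?_ ?_
        · rcases hzz _ p.1.2 with e | e <;> rw [e]
          · exact A.one_mem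
          · exact Subgroup.subset_closure (by simp)
        · have hxA : x ∈ A := Subgroup.subset_closure (by simp)
          have hyA : y ∈ A := Subgroup.subset_closure (by simp)
          have : ∀ k, ![1, x, y, x * y] k ∈ A := fun k => by
            fin_cases k
            exacts [A.one_mem, hxA, hyA, A.mul_mem hxA hyA]
          exact this p.2⟩
      have hφ : Function.Injective φ := by
        rintro ⟨a, i'⟩ ⟨b, j'⟩ h
        have h' : (a : R) * ![1, x, y, x * y] i' = (b : R) * ![1, x, y, x * y] j' := congrArg Subtype.val h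
        have hq : (QuotientGroup.mk (![1, x, y, x * y] i') : R ⧸ Subgroup.center R) =
            QuotientGroup.mk (![1, x, y, x * y] j') := by
          have hcen : (QuotientGroup.mk (a : R) : R ⧸ Subgroup.center R) = 1 := (QuotientGroup.eq_one_iff _).2 a.2
          have hcen' : (QuotientGroup.mk (b : R) : R ⧸ Subgroup.center R) = 1 := (QuotientGroup.eq_one_iff _).2 b.2
          have := congrArg (QuotientGroup.mk (s := Subgroup.center R)) h'
          rwa [QuotientGroup.mk_mul, QuotientGroup.mk_mul, hcen, hcen', one_mul, one_mul] at this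
        have hxq : (QuotientGroup.mk x : R ⧸ Subgroup.center R) = (σ i).1 := by rw [hxdef, QuotientGroup.out_eq']
        have hyq : (QuotientGroup.mk y : R ⧸ Subgroup.center R) = (σ j).1 := by rw [hydef, QuotientGroup.out_eq']
        have hx1 : ((σ i).1 : R ⧸ Subgroup.center R) ≠ 1 := (Finset.mem_filter.1 (σ i).2).2.1
        have hy1 : ((σ j).1 : R ⧸ Subgroup.center R) ≠ 1 := (Finset.mem_filter.1 (σ j).2).2.1
        have hxy1 : ((σ i).1 : R ⧸ Subgroup.center R) * (σ j).1 ≠ 1 := fun e => hne (by
          have hy' : ((σ j).1 : R ⧸ Subgroup.center R) * (σ j).1 = 1 := by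
            rw [← hyq, ← QuotientGroup.mk_mul, hy2, QuotientGroup.mk_one]
          exact (eq_inv_of_mul_eq_one_left e).trans (eq_inv_of_mul_eq_one_left hy').symm)
        have hij' : i' = j' := by
          fin_cases i' <;> fin_cases j' <;>
            simp [hxq, hyq, hne, Ne.symm hne, hx1, Ne.symm hx1, hy1, Ne.symm hy1, hxy1, Ne.symm hxy1] at hq ⊢
        subst hij'
        rw [Subtype.ext (mul_right_cancel h')]
      haveI : Finite A := inferInstance
      have := Nat.card_le_card_of_injective φ hφ
      rw [Nat.card_prod, hR.cardZ, Nat.card_eq_fintype_card, Fintype.card_fin] at this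
      omega
    have h := Phi_anti (F := F) (psi (t (σ i))) (psi (t (σ j)))
    rw [hPhi, hPhi, hanti, neg_add_cancel] at h
    simpa using (congrFun (congrFun h (.inl 0)) (.inl 0)).symm
  · rw [eq_top_iff]
    intro x _
    have hr : (Set.range fun i => psi (t (σ i))) = Set.range fun a : G => psi (t a) :=
      σ.surjective.range_comp fun a : G => psi (t a)
    rw [hr]
    exact hspan x
  · obtain ⟨a, ha⟩ : ∃ a : R ⧸ Subgroup.center R, a = QuotientGroup.mk r := ⟨_, rfl⟩
    have hc : r⁻¹ * a.out ∈ Subgroup.center R := QuotientGroup.eq.1 (by rw [QuotientGroup.out_eq', ha])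
    have hout : ((r : GL I4 F) : M4) = t a ∨ ((r : GL I4 F) : M4) = -t a := by
      have e : ((r : GL I4 F) : M4) * (((r⁻¹ * a.out : R) : GL I4 F) : M4) = t a := by
        rw [← Units.val_mul, ← Subgroup.coe_mul, mul_inv_cancel_left]
      rcases hR.center _ hc with e' | e' <;> rw [e'] at e
      · exact Or.inl (by rw [← e, mul_one])
      · exact Or.inr (by rw [← e, mul_neg_one, neg_neg])
    have hmem : a ∈ G := by
      refine Finset.mem_filter.2 ⟨Finset.mem_univ _, fun e => hr ?_, ?_⟩
      · rw [ha] at e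
        have := QuotientGroup.eq.1 e
        simpa using this
      · rcases hout with e | e <;> rw [e] at hr1
        · exact hr1
        · simpa using hr1
    refine ⟨σ.symm ⟨a, hmem⟩, ?_⟩
    rw [hPhi, Equiv.apply_symm_apply]
    exact hout

omit hR

/-- The normaliser of the group is maximal. -/
theorem symType_maximal [Finite F] (hp : (Nat.card F).Prime) (hR : Data R) :
    Cfsg.Geo.IsMaximalIn (Cfsg.spGL 2 F) (Cfsg.Geo.subgroupNormalizer R ⊓ Cfsg.spGL 2 F) := by
  classical
  have h2 : (2 : F) ≠ 0 := Fact.out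
  haveI : Finite R := Nat.finite_of_card_ne_zero (by rw [hR.card]; omega)
  obtain ⟨e, hE, heR, hall⟩ := hR.exists_frame
  choose r hr using heR
  have hnc : ∀ i, r i ∉ Subgroup.center R := by
    intro i hc
    have ht := (isW_Phi (e i)).2
    rw [← hr] at ht
    rcases hR.center _ hc with h | h <;> rw [h] at ht <;> simp [Matrix.trace_neg, Matrix.trace_one] at ht
    all_goals exact mul_ne_zero h2 h2 (by linear_combination ht)
  obtain ⟨z, hz⟩ := hR.exists_neg_one
  -- the involutions generate
  have hgen : Subgroup.closure (Set.range r ∪ {z}) = ⊤ := by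
    refine Subgroup.eq_top_of_card_eq _ (le_antisymm (Subgroup.card_le_card_group _) ?_)
    set C := Subgroup.closure (Set.range r ∪ {z}) with hC
    have hzC : z ∈ C := Subgroup.subset_closure (Or.inr rfl)
    have hrC : ∀ i, r i ∈ C := fun i => Subgroup.subset_closure (Or.inl ⟨i, rfl⟩)
    let φ : Fin 9 × Bool → C := fun p =>
      ⟨(if p.2 then z else 1) * (if h : (p.1 : ℕ) < 5 then r ⟨p.1, h⟩ else r 0 * r ⟨(p.1 : ℕ) - 4, by omega⟩), by
        refine C.mul_mem ?_ ?_ <;> split_ifs <;>
          first | exact hzC | exact C.one_mem | exact hrC _ | exact C.mul_mem (hrC _) (hrC _)⟩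
    have hE2 : ∀ i, Phi (e i) * Phi (e i) = (1 : M4) := fun i => by rw [Phi_sq, hE.Qe, one_smul]
    have hanti : ∀ i j, i ≠ j → Phi (e i) * Phi (e j) = -(Phi (e j) * Phi (e i) : M4) := fun i j hij => by
      have := Phi_anti (F := F) (e i) (e j)
      rw [hE.orth i j hij, zero_smul] at this
      exact eq_neg_of_add_eq_zero_left this
    have hone : (1 : M4) ≠ -1 := fun h => h2 (by
      have := congrFun (congrFun h (.inl 0)) (.inl 0)
      simp at this
      linear_combination this)
    have hsame : ∀ i j (s : F), Phi (e i) = s • Phi (e j) → i = j ∧ s = 1 := fun i j s h => by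
      have h' : (1 : F) • e i = s • e j := by rw [one_smul]; exact Phi_injective (by rw [map_smul]; exact h)
      obtain ⟨a, b⟩ := hE.eq_smul h' one_ne_zero
      exact ⟨a, b.symm⟩
    have hsq : ∀ j, j ≠ 0 → (Phi (e 0) * Phi (e j)) * (Phi (e 0) * Phi (e j)) = -(1 : M4) := fun j hj => by
      rw [mul_assoc, ← mul_assoc (Phi (e j)), hanti j 0 hj, Matrix.neg_mul, mul_assoc (Phi (e 0)) (Phi (e j)), hE2,
        mul_one, Matrix.mul_neg, hE2]
    have hval : ∀ p, ∃ s : F, (s = 1 ∨ s = -1) ∧ (((φ p : C) : R) : GL I4 F).1 =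
        s • (if h : (p.1 : ℕ) < 5 then Phi (e ⟨p.1, h⟩) else Phi (e 0) * Phi (e ⟨(p.1 : ℕ) - 4, by omega⟩)) ∧
        (s = 1 ↔ p.2 = false) := by
      rintro ⟨k, b⟩
      refine ⟨if b then -1 else 1, by cases b <;> simp, ?_, by
        cases b <;> simp; exact fun h => h2 (by linear_combination -h)⟩
      simp only [φ, Subgroup.coe_mul, Units.val_mul]
      cases b <;> simp only [Bool.false_eq_true, if_false, if_true] <;> split_ifs <;> simp [hr, hz]
    have hφ : Function.Injective φ := by
      rintro ⟨k, b⟩ ⟨k', b'⟩ h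
      obtain ⟨s, hs, h1, hb⟩ := hval (k, b)
      obtain ⟨s', hs', h1', hb'⟩ := hval (k', b')
      rw [h, h1'] at h1
      have hss : s * s = 1 := by rcases hs with rfl | rfl <;> ring
      have hss' : s' * s' = 1 := by rcases hs' with rfl | rfl <;> ring
      have key : k = k' ∧ s = s' := by
        by_cases hk : (k : ℕ) < 5 <;> by_cases hk' : (k' : ℕ) < 5 <;> simp only [dif_pos, dif_neg, hk, hk',
          not_false_eq_true] at h1
        · obtain ⟨a, b⟩ := hsame ⟨k', hk'⟩ ⟨k, hk⟩ (s' * s) (by
            have := congrArg (fun X : M4 => s' • X) h1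
            simp only [smul_smul, hss', one_smul] at this
            exact this)
          refine ⟨Fin.ext (Fin.mk.inj a).symm, ?_⟩
          linear_combination s' * b - s * hss'
        · exfalso
          have := congrArg (fun X : M4 => X * X) h1
          simp only [Matrix.smul_mul, Matrix.mul_smul, smul_smul, hss, hss', one_smul, hE2,
            hsq ⟨(k' : ℕ) - 4, by omega⟩ (by simp [Fin.ext_iff]; omega)] at this
          exact hone this.symm
        · exfalso
          have := congrArg (fun X : M4 => X * X) h1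
          simp only [Matrix.smul_mul, Matrix.mul_smul, smul_smul, hss, hss', one_smul, hE2,
            hsq ⟨(k : ℕ) - 4, by omega⟩ (by simp [Fin.ext_iff]; omega)] at this
          exact hone this
        · have := congrArg (fun X : M4 => s' • (Phi (e 0) * X)) h1
          simp only [Matrix.mul_smul, smul_smul, hss', one_smul, ← mul_assoc, hE2, one_mul] at this
          obtain ⟨a, b⟩ := hsame _ _ _ this
          refine ⟨Fin.ext ?_, by linear_combination s' * b - s * hss'⟩
          have := Fin.mk.inj a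
          omega
      obtain ⟨rfl, rfl⟩ := key
      have : b = b' := by
        cases b <;> cases b' <;> simp_all
      rw [this]
    have hle := Nat.card_le_card_of_injective φ hφ
    rw [Nat.card_prod, Nat.card_eq_fintype_card, Fintype.card_fin, Nat.card_eq_fintype_card, Fintype.card_bool] at hle
    obtain ⟨d, hd⟩ := Subgroup.card_subgroup_dvd_card C
    rw [hR.card] at hd ⊢
    have : d = 1 := by
      rcases Nat.lt_or_ge d 2 with h | h
      · interval_cases d <;> omega
      · have := Nat.mul_le_mul hle h; omega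
    subst this; omega
  -- conjugation and the frame
  have hconj : ∀ g : Cfsg.spGL 2 F, ∀ x : Fin 5 → F,
      Phi (act (rho F g) x) = ((g : GL I4 F) : M4) * Phi x * (((g : GL I4 F)⁻¹ : GL I4 F) : M4) :=
    fun g x => Phi_act_rho g x
  have fwd : ∀ g : Cfsg.spGL 2 F, (g : GL I4 F) ∈ Cfsg.Geo.subgroupNormalizer R →
      rho F g ∈ Mono.monoGroup e := by
    intro g hg
    refine Mono.isMono_of_forall hE fun i => ?_
    have hw : (g : GL I4 F) * r i * (g : GL I4 F)⁻¹ ∈ R := (Subgroup.mem_normalizer_iff.1 hg _).1 (r i).2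
    have hwM : (((⟨_, hw⟩ : R) : GL I4 F) : M4) = Phi (act (rho F g) (e i)) := by
      rw [hconj]; simp [hr]
    obtain ⟨j, hj⟩ := hall ⟨_, hw⟩ (fun hc => by
      have ht := (isW_Phi (act (rho F g) (e i))).2
      rw [← hwM] at ht
      rcases hR.center _ hc with h | h <;> rw [h] at ht <;> simp [Matrix.trace_neg, Matrix.trace_one] at ht
      all_goals exact mul_ne_zero h2 h2 (by linear_combination ht)) (by
      rw [hwM, Phi_sq, Orth.Q_act (rho_mem_iso g), hE.Qe, one_smul])
    rw [hwM] at hj
    rcases hj with hj | hj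
    · exact ⟨j, 1, Phi_injective (by rw [hj, one_smul])⟩
    · exact ⟨j, -1, Phi_injective (by rw [hj, neg_one_smul, map_neg])⟩
  have bwd : ∀ g : Cfsg.spGL 2 F, rho F g ∈ Mono.monoGroup e →
      ∀ x : R, (g : GL I4 F) * x * (g : GL I4 F)⁻¹ ∈ R := by
    rintro g ⟨σ, hσ⟩ x
    have hx : x ∈ Subgroup.closure (Set.range r ∪ {z}) := hgen ▸ Subgroup.mem_top x
    induction hx using Subgroup.closure_induction with
    | mem x hx =>
      rcases hx with ⟨i, rfl⟩ | rfl
      · obtain ⟨s, hs0, hs⟩ := hσ i
        have hs1 := Mono.sign_of_iso hE (rho_mem_iso g) hs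
        have hM : (((g : GL I4 F) * r i * (g : GL I4 F)⁻¹ : GL I4 F) : M4) = s • Phi (e (σ i)) := by
          rw [← map_smul, ← hs, hconj]; simp [hr]
        rcases hs1 with rfl | rfl
        · rw [show (g : GL I4 F) * r i * (g : GL I4 F)⁻¹ = r (σ i) from Units.ext (by
            rw [hM, one_smul, hr])]
          exact (r (σ i)).2
        · rw [show (g : GL I4 F) * r i * (g : GL I4 F)⁻¹ = ((z * r (σ i) : R) : GL I4 F) from Units.ext (by
            rw [hM]; simp [hz, hr])]
          exact (z * r (σ i)).2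
      · rw [show (g : GL I4 F) * x * (g : GL I4 F)⁻¹ = (x : GL I4 F) from Units.ext (by simp [hz])]
        exact x.2
    | one => simp
    | mul a b _ _ iha ihb =>
      have := R.mul_mem iha ihb
      rwa [show (g : GL I4 F) * a * (g : GL I4 F)⁻¹ * ((g : GL I4 F) * b * (g : GL I4 F)⁻¹) =
        (g : GL I4 F) * ((a * b : R) : GL I4 F) * (g : GL I4 F)⁻¹ by rw [Subgroup.coe_mul]; group] at this
    | inv a _ iha =>
      have := R.inv_mem iha
      rwa [show ((g : GL I4 F) * a * (g : GL I4 F)⁻¹)⁻¹ =
        (g : GL I4 F) * ((a⁻¹ : R) : GL I4 F) * (g : GL I4 F)⁻¹ by rw [Subgroup.coe_inv]; group] at this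
  have hiff : ∀ g : Cfsg.spGL 2 F, (g : GL I4 F) ∈ Cfsg.Geo.subgroupNormalizer R ↔
      rho F g ∈ Mono.monoGroup e := by
    refine fun g => ⟨fwd g, fun hg => Subgroup.mem_normalizer_iff.2 fun w => ⟨fun hw => bwd g hg ⟨w, hw⟩,
      fun hw => ?_⟩⟩
    have := bwd g⁻¹ (by rw [map_inv]; exact inv_mem hg) ⟨_, hw⟩
    simpa [mul_assoc] using this
  -- maximality
  have hmax := Mono.maximal_of_frame hE hp (Or.inl ⟨by decide, le_rfl⟩)
  have hrange := rho_range (F := F)
  refine ⟨lt_of_le_of_ne inf_le_right fun heq => ?_, fun M hHM hMS => ?_⟩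
  · refine hmax.1.not_ge fun w hw => ?_
    obtain ⟨g, rfl⟩ := hrange.ge hw
    exact ⟨(hiff g).1 ((inf_eq_right.1 heq) g.2), hw⟩
  · let M' := (M.subgroupOf (Cfsg.spGL 2 F)).map (rho F)
    have h1 : Mono.monoGroup e ⊓ Cfsg.Geo.omegaGL (qf5 F) ≤ M' := by
      rintro w ⟨hw, hwΩ⟩
      obtain ⟨g, rfl⟩ := hrange.ge hwΩ
      exact ⟨g, hHM ⟨(hiff g).2 hw, g.2⟩, rfl⟩
    have h2' : M' ≤ Cfsg.Geo.omegaGL (qf5 F) := by
      rintro _ ⟨g, -, rfl⟩; exact hrange.le ⟨g, rfl⟩
    rcases hmax.2 M' h1 h2' with h | h
    · left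
      refine le_antisymm (fun g hg => ⟨?_, hMS hg⟩) hHM
      have := h.le ⟨⟨g, hMS hg⟩, hg, rfl⟩
      exact (hiff ⟨g, hMS hg⟩).2 this.1
    · right
      refine le_antisymm hMS fun g hg => ?_
      obtain ⟨g', hg', he⟩ := h.ge (hrange.le ⟨⟨g, hg⟩, rfl⟩)
      have hk : ((g'⁻¹ * ⟨g, hg⟩ : Cfsg.spGL 2 F) : GL I4 F) ∈ M := by
        refine hHM ⟨(hiff _).2 ?_, SetLike.coe_mem _⟩
        rw [map_mul, map_inv, he, inv_mul_cancel]
        exact one_mem _
      have := M.mul_mem hg' hk
      rwa [← Subgroup.coe_subtype, ← map_mul, mul_inv_cancel_left] at this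

end Cfsg.Agent.MaxCl.SpFour
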